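import Cfsg.Agent.Char.SylEASym
import Cfsg.Agent.Fus.SylowIn
import Mathlib.GroupTheory.Perm.Cycle.Type
import Mathlib.Algebra.Field.ZMod

/-!
# The wreath product `C_p ≀ Sym(I)` inside a symmetric group
-/

set_option autoImplicit false
set_option linter.unusedSectionVars false

namespace Cfsg.Lib.DC.Wr

open Equiv Subgroup

/-- Blocks of size `p` indexed by `I`, and further points `J`. -/
abbrev Om (I : Type*) (p : ℕ) (J : Type*) := (I × ZMod p) ⊕ J

variable {I J : Type*} {p : ℕ}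

/-- Translations inside the blocks. -/
def tr (J : Type*) (b : I → ZMod p) : Perm (Om I p J) :=
  Equiv.sumCongr (Equiv.prodCongrRight fun i => Equiv.addRight (b i)) (Equiv.refl J)

/-- Permutations of the blocks. -/
def tp (p : ℕ) (J : Type*) (σ : Perm I) : Perm (Om I p J) :=
  Equiv.sumCongr (Equiv.prodCongrLeft fun _ => σ) (Equiv.refl J)

/-- Multiplications inside the blocks. -/
def dg (J : Type*) (u : I → (ZMod p)ˣ) : Perm (Om I p J) :=
  Equiv.sumCongr (Equiv.prodCongrRight fun i => (u i).mulRight) (Equiv.refl J)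

@[simp] theorem tr_inl (b : I → ZMod p) (i : I) (y : ZMod p) :
    tr J b (Sum.inl (i, y)) = Sum.inl (i, y + b i) := rfl
@[simp] theorem tr_inr (b : I → ZMod p) (j : J) : tr J b (Sum.inr j) = Sum.inr j := rfl
@[simp] theorem tp_inl (σ : Perm I) (i : I) (y : ZMod p) :
    tp p J σ (Sum.inl (i, y)) = Sum.inl (σ i, y) := rfl
@[simp] theorem tp_inr (σ : Perm I) (j : J) : tp p J σ (Sum.inr j) = Sum.inr j := rfl
@[simp] theorem dg_inl (u : I → (ZMod p)ˣ) (i : I) (y : ZMod p) :
    dg J u (Sum.inl (i, y)) = Sum.inl (i, y * u i) := rfl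
@[simp] theorem dg_inr (u : I → (ZMod p)ˣ) (j : J) : dg J u (Sum.inr j) = Sum.inr j := rfl

theorem om_ext {x y : Perm (Om I p J)} (h1 : ∀ i c, x (Sum.inl (i, c)) = y (Sum.inl (i, c)))
    (h2 : ∀ j, x (Sum.inr j) = y (Sum.inr j)) : x = y := by
  ext (⟨i, c⟩ | j)
  · exact h1 i c
  · exact h2 j

/-- The translations as a homomorphism. -/
def trH (I : Type*) (p : ℕ) (J : Type*) : Multiplicative (I → ZMod p) →* Perm (Om I p J) :=
  MonoidHom.mk' (fun b => tr J b.toAdd) fun a b =>
    om_ext (fun i c => by simp [add_comm, add_left_comm]) fun j => rfl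

/-- The block permutations as a homomorphism. -/
def tpH (I : Type*) (p : ℕ) (J : Type*) : Perm I →* Perm (Om I p J) :=
  MonoidHom.mk' (tp p J) fun _ _ => om_ext (fun _ _ => rfl) fun _ => rfl

/-- The multiplications as a homomorphism. -/
def dgH (I : Type*) (p : ℕ) (J : Type*) : (I → (ZMod p)ˣ) →* Perm (Om I p J) :=
  MonoidHom.mk' (dg J) fun a b =>
    om_ext (fun i c => by simp [mul_comm, mul_left_comm]) fun _ => rfl

theorem tr_add (a b : I → ZMod p) : tr J (a + b) = tr J a * tr J b :=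
  (trH I p J).map_mul (Multiplicative.ofAdd a) (Multiplicative.ofAdd b)
@[simp] theorem tr_zero : tr J (0 : I → ZMod p) = 1 := (trH I p J).map_one
theorem tr_neg (a : I → ZMod p) : tr J (-a) = (tr J a)⁻¹ :=
  (trH I p J).map_inv (Multiplicative.ofAdd a)
theorem tr_nsmul (a : I → ZMod p) (n : ℕ) : tr J (n • a) = tr J a ^ n :=
  (trH I p J).map_pow (Multiplicative.ofAdd a) n
theorem tr_pow_p (a : I → ZMod p) : tr J a ^ p = 1 := by
  rw [← tr_nsmul, show p • a = 0 from funext fun i => by simp, tr_zero]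
theorem tp_mul (σ τ : Perm I) : tp p J (σ * τ) = tp p J σ * tp p J τ := (tpH I p J).map_mul σ τ
@[simp] theorem tp_one : tp p J (1 : Perm I) = 1 := (tpH I p J).map_one
theorem tp_inv (σ : Perm I) : tp p J σ⁻¹ = (tp p J σ)⁻¹ := (tpH I p J).map_inv σ
theorem tp_pow (σ : Perm I) (n : ℕ) : tp p J (σ ^ n) = tp p J σ ^ n := (tpH I p J).map_pow σ n
theorem dg_mul (u v : I → (ZMod p)ˣ) : dg J (u * v) = dg J u * dg J v := (dgH I p J).map_mul u v
theorem dg_inv (u : I → (ZMod p)ˣ) : dg J u⁻¹ = (dg J u)⁻¹ := (dgH I p J).map_inv u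

theorem tp_tr (σ : Perm I) (b : I → ZMod p) :
    tp p J σ * tr J b = tr J (fun i => b (σ⁻¹ i)) * tp p J σ :=
  om_ext (fun i c => by simp) fun _ => rfl

theorem dg_tr (u : I → (ZMod p)ˣ) (b : I → ZMod p) :
    dg J u * tr J b = tr J (fun i => b i * (u i : ZMod p)) * dg J u :=
  om_ext (fun i c => by simp [add_mul]) fun _ => rfl

theorem tp_dg (σ : Perm I) (u : I → (ZMod p)ˣ) :
    tp p J σ * dg J u = dg J (fun i => u (σ⁻¹ i)) * tp p J σ :=
  om_ext (fun i c => by simp) fun _ => rfl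

/-- The base group. -/
def A (I : Type*) (p : ℕ) (J : Type*) : Subgroup (Perm (Om I p J)) := (trH I p J).range

theorem tr_mem (b : I → ZMod p) : tr J b ∈ A I p J := ⟨Multiplicative.ofAdd b, rfl⟩

theorem mem_A {x : Perm (Om I p J)} : x ∈ A I p J ↔ ∃ b, x = tr J b :=
  ⟨fun ⟨b, h⟩ => ⟨b.toAdd, h.symm⟩, fun ⟨b, h⟩ => h ▸ tr_mem b⟩

theorem isPGroup_A : IsPGroup p (A I p J) := fun x => ⟨1, Subtype.ext (by
  obtain ⟨b, h⟩ := mem_A.1 x.2
  simp [h, tr_pow_p])⟩

theorem mem_norm_A_of {x : Perm (Om I p J)} (h1 : ∀ b, ∃ c, x * tr J b = tr J c * x)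
    (h2 : ∀ b, ∃ c, x⁻¹ * tr J b = tr J c * x⁻¹) : x ∈ normalizer (A I p J : Set (Perm (Om I p J))) := by
  refine mem_normalizer_iff.2 fun y => ⟨fun hy => ?_, fun hy => ?_⟩
  · obtain ⟨b, rfl⟩ := mem_A.1 hy
    obtain ⟨c, hc⟩ := h1 b
    rw [hc, mul_inv_cancel_right]; exact tr_mem c
  · obtain ⟨b, hb⟩ := mem_A.1 hy
    obtain ⟨c, hc⟩ := h2 b
    have : y = tr J c := by
      rw [← mul_inv_eq_iff_eq_mul, ← hb] at hc
      rw [← hc]; group
    rw [this]; exact tr_mem c

theorem tp_mem_norm (σ : Perm I) : tp p J σ ∈ normalizer (A I p J : Set (Perm (Om I p J))) :=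
  mem_norm_A_of (fun b => ⟨_, tp_tr σ b⟩) fun b => ⟨_, by rw [← tp_inv]; exact tp_tr σ⁻¹ b⟩

theorem dg_mem_norm (u : I → (ZMod p)ˣ) : dg J u ∈ normalizer (A I p J : Set (Perm (Om I p J))) :=
  mem_norm_A_of (fun b => ⟨_, dg_tr u b⟩) fun b => ⟨_, by rw [← dg_inv]; exact dg_tr u⁻¹ b⟩

theorem tr_mem_norm (b : I → ZMod p) : tr J b ∈ normalizer (A I p J : Set (Perm (Om I p J))) :=
  le_normalizer (tr_mem b)

/-- The group `C_p ≀ B`. -/
def T (p : ℕ) (J : Type*) (B : Subgroup (Perm I)) : Subgroup (Perm (Om I p J)) where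
  carrier := {x | ∃ b, ∃ σ ∈ B, x = tr J b * tp p J σ}
  one_mem' := ⟨0, 1, B.one_mem, by simp⟩
  mul_mem' := by
    rintro _ _ ⟨b, σ, hσ, rfl⟩ ⟨c, τ, hτ, rfl⟩
    refine ⟨b + fun i => c (σ⁻¹ i), σ * τ, B.mul_mem hσ hτ, ?_⟩
    rw [tr_add, tp_mul, mul_assoc, ← mul_assoc (tp p J σ), tp_tr]
    simp only [mul_assoc]
  inv_mem' := by
    rintro _ ⟨b, σ, hσ, rfl⟩
    exact ⟨_, σ⁻¹, B.inv_mem hσ, by rw [mul_inv_rev, ← tp_inv, ← tr_neg, tp_tr]⟩

variable {B : Subgroup (Perm I)}

theorem tr_mem_T (b : I → ZMod p) : tr J b ∈ T p J B := ⟨b, 1, B.one_mem, by simp⟩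

theorem tp_mem_T {σ : Perm I} (h : σ ∈ B) : tp p J σ ∈ T p J B := ⟨0, σ, h, by simp⟩

theorem A_le_T : A I p J ≤ T p J B := fun _ hx => by
  obtain ⟨b, rfl⟩ := mem_A.1 hx
  exact tr_mem_T b

theorem tr_tp_inj {b c : I → ZMod p} {σ τ : Perm I} (h : tr J b * tp p J σ = tr J c * tp p J τ) :
    b = c ∧ σ = τ := by
  have h1 : ∀ i, σ i = τ i ∧ b (σ i) = c (τ i) := fun i => by
    simpa using DFunLike.congr_fun h (Sum.inl (i, 0))
  have h2 : σ = τ := Equiv.ext fun i => (h1 i).1
  subst h2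
  exact ⟨funext fun i => by simpa using (h1 (σ⁻¹ i)).2, rfl⟩

variable [hp : Fact p.Prime]

theorem card_T [Finite I] : Nat.card (T p J B) = p ^ Nat.card I * Nat.card B := by
  have h : Function.Bijective fun x : (I → ZMod p) × B =>
      (⟨tr J x.1 * tp p J x.2, x.1, x.2, x.2.2, rfl⟩ : T p J B) := by
    refine ⟨fun x y h => ?_, ?_⟩
    · obtain ⟨h1, h2⟩ := tr_tp_inj (congrArg Subtype.val h)
      exact Prod.ext h1 (Subtype.ext h2)
    · rintro ⟨_, b, σ, hσ, rfl⟩
      exact ⟨(b, ⟨σ, hσ⟩), rfl⟩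
  rw [← Nat.card_eq_of_bijective _ h, Nat.card_prod, Nat.card_fun, Nat.card_zmod]

theorem card_Om [Fintype I] [Fintype J] :
    Fintype.card (Om I p J) = Fintype.card I * p + Fintype.card J := by
  simp

theorem exists_sylow_T [Fintype I] [Fintype J] (hJ : Fintype.card J < p) (Q : Sylow p (Perm I)) :
    ∃ P : Sylow p (Perm (Om I p J)), (P : Subgroup (Perm (Om I p J))) = T p J Q := by
  refine ⟨Sylow.ofCard (T p J Q) ?_, rfl⟩
  have h1 : (Fintype.card I * p + Fintype.card J) / p = Fintype.card I := by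
    rw [mul_comm, Nat.mul_add_div hp.out.pos, Nat.div_eq_of_lt hJ, add_zero]
  rw [card_T, Q.card_eq_multiplicity, Nat.card_perm, Nat.card_perm,
    Nat.card_eq_fintype_card (α := Om I p J), card_Om,
    Cfsg.Lib.Char.factorization_factorial_eq (Fintype.card I * p + Fintype.card J), h1, pow_add,
    Nat.card_eq_fintype_card]

/-- Generation by elements of order dividing `p`. -/
def OG (p : ℕ) (H : Type*) [Group H] : Prop := closure {x : H | x ^ p = 1} = ⊤

omit hp in
theorem OG.congr {H K : Type*} [Group H] [Group K] (h : OG p H) (e : H ≃* K) : OG p K := by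
  refine eq_top_iff.2 fun y _ => ?_
  have h1 : e.symm y ∈ closure {x : H | x ^ p = 1} := by rw [h]; trivial
  have h2 : (closure {x : H | x ^ p = 1}).map e.toMonoidHom ≤ closure {x : K | x ^ p = 1} := by
    rw [MonoidHom.map_closure]
    refine closure_mono ?_
    rintro _ ⟨x, hx, rfl⟩
    show e x ^ p = 1
    rw [← map_pow, show x ^ p = 1 from hx, map_one]
  exact h2 ⟨_, h1, by simp⟩

omit hp in
theorem OG.le {H : Type*} [Group H] {K U : Subgroup H} (h : OG p K)
    (hU : ∀ x ∈ K, x ^ p = 1 → x ∈ U) : K ≤ U := fun x hx => by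
  have h1 : (⟨x, hx⟩ : K) ∈ closure {x : K | x ^ p = 1} := by rw [h]; trivial
  exact (closure_le (K := U.subgroupOf K)).2
    (fun y hy => hU y y.2 (congrArg Subtype.val hy)) h1

omit hp in
theorem og_T (h : OG p B) : OG p (T p J B) := by
  refine eq_top_iff.2 ?_
  rintro ⟨_, b, σ, hσ, rfl⟩ -
  have h1 : (⟨tr J b, tr_mem_T b⟩ : T p J B) ∈ closure {x : T p J B | x ^ p = 1} :=
    subset_closure (Subtype.ext (tr_pow_p b))
  have h2 := h.le (U := ((closure {x : T p J B | x ^ p = 1}).map (T p J B).subtype).comap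
    (tpH I p J)) (fun τ hτ e => ⟨⟨tp p J τ, tp_mem_T hτ⟩,
      subset_closure (Subtype.ext (by simp [← tp_pow, e])), rfl⟩) hσ
  obtain ⟨y, hy, e⟩ := h2
  have := mul_mem h1 hy
  convert this using 1
  exact Subtype.ext (by simp [show (y : Perm (Om I p J)) = tp p J σ from e])

theorem nonempty_equiv_Om (α : Type*) [Fintype α] :
    Nonempty (Om (Fin (Fintype.card α / p)) p (Fin (Fintype.card α % p)) ≃ α) :=
  Fintype.card_eq.1 (by simp [Nat.div_add_mod'])

theorem og_sylow_fin (n : ℕ) : ∀ Q : Sylow p (Perm (Fin n)), OG p Q := by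
  induction n using Nat.strong_induction_on with
  | _ n ih =>
  intro Q
  rcases Nat.eq_zero_or_pos n with rfl | hn
  · exact Subsingleton.elim _ _
  obtain ⟨e⟩ := nonempty_equiv_Om (p := p) (Fin n)
  rw [Fintype.card_fin] at e
  obtain ⟨R⟩ : Nonempty (Sylow p (Perm (Fin (n / p)))) := inferInstance
  obtain ⟨P, hP⟩ := exists_sylow_T (J := Fin (n % p)) (by simpa using Nat.mod_lt n hp.out.pos) R
  have h1 : OG p P := by
    have := og_T (J := Fin (n % p)) (ih _ (Nat.div_lt_self hn hp.out.one_lt) R)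
    rwa [← hP] at this
  have h2 := h1.congr (e.permCongrHom.subgroupMap P)
  exact h2.congr ((P.mapSurjective (f := e.permCongrHom.toMonoidHom)
    e.permCongrHom.surjective).equiv Q)

theorem og_sylow [Finite I] (Q : Sylow p (Perm I)) : OG p Q := by
  obtain ⟨n, ⟨e⟩⟩ := Finite.exists_equiv_fin I
  exact (og_sylow_fin n (Q.mapSurjective (f := e.permCongrHom.toMonoidHom)
    e.permCongrHom.surjective)).congr (e.permCongrHom.subgroupMap Q).symm

/-- The normaliser of the base group. -/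
theorem norm_A [DecidableEq I] [Finite I] {x : Perm (Om I p J)}
    (hx : x ∈ normalizer (A I p J : Set (Perm (Om I p J)))) :
    ∃ (σ : Perm I) (u : I → (ZMod p)ˣ) (b : I → ZMod p),
      (∀ i y, x (Sum.inl (i, y)) = Sum.inl (σ i, y * u i + b i)) ∧
        ∀ j, ∃ j', x (Sum.inr j) = Sum.inr j' := by
  have h1 : ∀ i, ∃ i' b u, ∀ y : ZMod p, x (Sum.inl (i, y)) = Sum.inl (i', y * u + b) := by
    intro i
    obtain ⟨c, hc⟩ := mem_A.1 ((mem_normalizer_iff.1 hx _).1 (tr_mem (Pi.single i 1)))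
    have h2 : ∀ w, x (tr J (Pi.single i 1) w) = tr J c (x w) := fun w => by simp [← hc]
    rcases h3 : x (Sum.inl (i, 0)) with ⟨i', b⟩ | j
    · refine ⟨i', b, c i', fun y => ?_⟩
      have h4 : ∀ n : ℕ, x (Sum.inl (i, (n : ZMod p))) = Sum.inl (i', n * c i' + b) := by
        intro n
        induction n with
        | zero => simpa using h3
        | succ n ih =>
          have := h2 (Sum.inl (i, n))
          rw [ih] at this
          simp only [tr_inl, Pi.single_eq_same] at this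
          push_cast
          rw [this]; congr 2; ring
      simpa using h4 y.val
    · have := h2 (Sum.inl (i, 0))
      rw [h3, tr_inr, ← h3] at this
      simpa using x.injective this
  choose s b u h using h1
  have hu : ∀ i, u i ≠ 0 := fun i h0 => by
    have h5 := (h i 1).trans ((show Sum.inl (s i, 1 * u i + b i) = Sum.inl (s i, 0 * u i + b i) by
      simp [h0]).trans (h i 0).symm)
    simpa using x.injective h5
  have hs : Function.Injective s := fun i j e => by
    have h5 := (h i ((b j - b i) / u i)).trans ((show Sum.inl (s i, (b j - b i) / u i * u i + b i) =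
      Sum.inl (s j, 0 * u j + b j) by rw [div_mul_cancel₀ _ (hu i), e]; simp).trans (h j 0).symm)
    simpa using congrArg (Sum.elim Prod.fst fun _ => i) (x.injective h5)
  let σ : Perm I := Equiv.ofBijective s (Finite.injective_iff_bijective.1 hs)
  refine ⟨σ, fun i => Units.mk0 (u i) (hu i), b, h, fun j => ?_⟩
  rcases h3 : x (Sum.inr j) with ⟨i', c⟩ | j'
  · obtain ⟨i, rfl⟩ := σ.surjective i'
    have h5 := (h i ((c - b i) / u i)).trans ((show Sum.inl (s i, (c - b i) / u i * u i + b i) =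
      Sum.inl (σ i, c) by rw [div_mul_cancel₀ _ (hu i)]; simp [σ]).trans h3.symm)
    simpa using x.injective h5
  · exact ⟨j', rfl⟩

theorem norm_A' [DecidableEq I] [Finite I] [Subsingleton J] {x : Perm (Om I p J)}
    (hx : x ∈ normalizer (A I p J : Set (Perm (Om I p J)))) :
    ∃ b σ u, x = tr J b * tp p J σ * dg J u := by
  obtain ⟨σ, u, b, h1, h2⟩ := norm_A hx
  refine ⟨fun i => b (σ⁻¹ i), σ, u, om_ext (fun i c => by simp [h1]) fun j => ?_⟩
  obtain ⟨j', h⟩ := h2 j
  simp [h, Subsingleton.elim j' j]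

theorem cent_A [DecidableEq I] [Finite I] [Subsingleton J] :
    centralizer (A I p J : Set (Perm (Om I p J))) ≤ A I p J := fun x hx => by
  obtain ⟨b, σ, u, rfl⟩ := norm_A' (centralizer_le_normalizer _ hx)
  have h1 : ∀ i, σ i = i ∧ u i = 1 := fun i => by
    have := DFunLike.congr_fun (mem_centralizer_iff.1 hx _ (tr_mem (Pi.single i 1)))
      (Sum.inl (i, 0))
    simp only [Perm.mul_apply, dg_inl, tp_inl, tr_inl, zero_mul, zero_add, Pi.single_eq_same,
      one_mul, Sum.inl.injEq, Prod.mk.injEq, true_and] at this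
    by_cases h : σ i = i
    · rw [h, Pi.single_eq_same, add_comm, add_left_inj] at this
      exact ⟨h, Units.ext this.symm⟩
    · rw [Pi.single_eq_of_ne h, add_zero, right_eq_add] at this
      exact absurd this (u i).ne_zero
  rw [show σ = 1 from Equiv.ext fun i => (h1 i).1, show u = 1 from funext fun i => (h1 i).2,
    show dg J (1 : I → (ZMod p)ˣ) = 1 from (dgH I p J).map_one, tp_one, mul_one, mul_one]
  exact tr_mem b

variable [Fintype I] [Fintype J] [DecidableEq I] [DecidableEq J]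

theorem card_supp_of {x : Perm (Om I p J)} (K : Finset I)
    (h1 : ∀ i y, x (Sum.inl (i, y)) ≠ Sum.inl (i, y) ↔ i ∈ K) (h2 : ∀ j, x (Sum.inr j) = Sum.inr j) :
    x.support.card = K.card * p := by
  have : x.support = (K ×ˢ (Finset.univ : Finset (ZMod p))).map ⟨Sum.inl, Sum.inl_injective⟩ := by
    ext (⟨i, y⟩ | j)
    · simp [h1]
    · simp [h2]
  rw [this, Finset.card_map, Finset.card_product, Finset.card_univ, ZMod.card]

theorem card_supp_tr (b : I → ZMod p) (K : Finset I) (h : ∀ i, b i ≠ 0 ↔ i ∈ K) :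
    (tr J b).support.card = K.card * p :=
  card_supp_of K (fun i y => by simp [← h]) fun _ => rfl

theorem card_supp_tp (σ : Perm I) : (tp p J σ).support.card = σ.support.card * p :=
  card_supp_of _ (fun i y => by simp) fun _ => rfl

theorem mem_A_of_card_supp {x : Perm (Om I p J)} (hx : x ∈ T p J B) (h : x.support.card ≤ p) :
    x ∈ A I p J := by
  obtain ⟨b, σ, -, rfl⟩ := hx
  by_cases hσ : σ = 1
  · rw [hσ, tp_one, mul_one]; exact tr_mem b
  obtain ⟨i, hi⟩ : ∃ i, σ i ≠ i := by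
    by_contra h'
    push Not at h'
    exact hσ (Equiv.ext h')
  have h1 : (({σ i, i} : Finset I) ×ˢ (Finset.univ : Finset (ZMod p))).map
      ⟨Sum.inl, Sum.inl_injective⟩ ⊆ (tr J b * tp p J σ).support := by
    intro w hw
    obtain ⟨⟨k, y⟩, hk, rfl⟩ := Finset.mem_map.1 hw
    simp only [Finset.mem_product, Finset.mem_insert, Finset.mem_singleton] at hk
    rcases hk.1 with rfl | rfl
    · simp [hi]
    · simp [hi]
  have h2 := Finset.card_le_card h1
  rw [Finset.card_map, Finset.card_product, Finset.card_pair hi, Finset.card_univ, ZMod.card] at h2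
  have := hp.out.pos
  omega

theorem norm_T_le : normalizer (T p J B : Set (Perm (Om I p J))) ≤
    normalizer (A I p J : Set (Perm (Om I p J))) := fun g hg => by
  refine mem_normalizer_fintype fun x hx => ?_
  obtain ⟨b, rfl⟩ := mem_A.1 hx
  refine (Subgroup.pi_mem_of_mulSingle_mem (H := ((A I p J).comap (MulAut.conj g).toMonoidHom).comap
    ((trH I p J).comp (MulEquiv.funMultiplicative I (ZMod p)).symm.toMonoidHom))
    (fun i => Multiplicative.ofAdd (b i)) fun i => ?_ :)
  show g * tr J _ * g⁻¹ ∈ A I p J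
  refine mem_A_of_card_supp (B := B) ((mem_normalizer_iff.1 hg _).1 (tr_mem_T _)) ?_
  rw [Perm.card_support_conj]
  by_cases h : b i = 0
  · rw [card_supp_tr _ ∅ fun k => by by_cases hk : k = i <;> simp [hk, h]]
    simp
  · rw [card_supp_tr _ {i} fun k => by by_cases hk : k = i <;> simp [hk, h]]
    simp

end Cfsg.Lib.DC.Wr
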